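import Groth.Agent.MultT.OpenSub
import Groth.Agent.MultT.Basic2
import Groth.Agent.MultT.FibreGlobal
import Groth.Agent.MultT.Diag
import Groth.Agent.MTBridge.OfHopf
import Groth.Agent.MTBridge.Charts
import Groth.Agent.MTBridge.Hom
import Groth.Agent.MTBridge.BaseChange
import Groth.Agent.S5264
import Groth.Agent.S5242

/-!
# Flat closed subgroups of groups of multiplicative type
-/

set_option autoImplicit false
set_option linter.style.haveILetI false
set_option backward.isDefEq.respectTransparency false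
set_option backward.isDefEq.respectTransparency.types false
set_option maxHeartbeats 800000
set_option synthInstance.maxHeartbeats 400000

universe u

open CategoryTheory Limits MonoidalCategory CartesianMonoidalCategory AlgebraicGeometry TensorProduct Opposite
open scoped CategoryTheory.Obj

noncomputable section

namespace Groth.Agent.MTSub

open Groth.Agent.MTBridge

/-- Affine form. -/
theorem isMultType_of_surjective {R A C : Type u} [CommRing R] [CommRing A] [HopfAlgebra R A] [CommRing C]
    [HopfAlgebra R C] (hA : SGA3b.IsMultType R A) [hft : Algebra.FiniteType R A] (f : A →ₐc[R] C)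
    (hf : Function.Surjective f) [Module.Flat R C] (hfp : Algebra.FinitePresentation R C) :
    SGA3b.IsMultType R C := by
  haveI := Groth.Agent.MultT.isCocomm hA
  haveI : Coalgebra.IsCocomm R C := by
    refine ⟨LinearMap.ext fun c => ?_⟩
    obtain ⟨a, rfl⟩ := hf c
    have h := LinearMap.congr_fun (Coalgebra.IsCocomm.comm_comp_comul (R := R) (A := A)) a
    simp only [LinearMap.comp_apply] at h
    show TensorProduct.comm R C C (Coalgebra.comul (f a)) = Coalgebra.comul (f a)
    rw [← CoalgHomClass.map_comp_comul_apply f a]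
    rw [← LinearEquiv.coe_coe, ← LinearMap.comp_apply, ← TensorProduct.map_comp_comm_eq, LinearMap.comp_apply]
    exact congrArg _ h
  refine S5264.result R C hfp (fun p _ => ?_) (fun n hn => ?_)
  · let κ := p.ResidueField
    let g := Bialgebra.TensorProduct.map (R := R) (S := κ) (A := κ) (C := κ) (B := A) (D := C) (BialgHom.id κ κ) f
    have hg : Function.Surjective g := fun z => by
      induction z using TensorProduct.induction_on with
      | zero => exact ⟨0, map_zero g⟩
      | tmul a c => obtain ⟨x, rfl⟩ := hf c; exact ⟨a ⊗ₜ x, rfl⟩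
      | add a b ha hb => obtain ⟨x, rfl⟩ := ha; obtain ⟨y, rfl⟩ := hb; exact ⟨x + y, map_add g x y⟩
    obtain ⟨hK, ⟨e⟩⟩ := Groth.Agent.MultT.exists_quot_equiv g hg
    haveI := hK
    exact Groth.Agent.MultT.isMultType_of_equiv e.symm
      (Groth.Agent.MultT.quotient_isMultType (Groth.Agent.MultT.isMultType_baseChange hA κ) _)
  · haveI : (SGA3b.torsionIdeal R A n).IsHopfIdeal R := Groth.Agent.MultT.isHopfIdeal_torsion n
    haveI : Module.Finite R (A ⧸ SGA3b.torsionIdeal R A n) := (S5242.result R A hft hA n hn _ rfl).2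
    have hle : SGA3b.torsionIdeal R A n ≤ (SGA3b.torsionIdeal R C n).comap (f : A →ₐ[R] C) := by
      unfold SGA3b.torsionIdeal
      rw [Ideal.map_le_iff_le_comap]
      intro x hx
      rw [Ideal.mem_comap, Ideal.mem_comap]
      show f (SGA3b.powConv R A n x) ∈ _
      rw [Groth.Agent.MultT.powConv_comp f n x]
      refine Ideal.mem_map_of_mem _ ?_
      rw [RingHom.mem_ker] at hx ⊢
      simp only [Bialgebra.counitAlgHom_apply] at hx ⊢
      rw [CoalgHomClass.counit_comp_apply, hx]
    exact Module.Finite.of_surjective (Ideal.quotientMapₐ _ (f : A →ₐ[R] C) hle).toLinearMap fun z => by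
      obtain ⟨c, rfl⟩ := Ideal.Quotient.mk_surjective z
      obtain ⟨a, rfl⟩ := hf c
      exact ⟨Ideal.Quotient.mk _ a, rfl⟩

/-- Over an affine base. -/
theorem isMultTypeFT_affine {R : Type u} [CommRing R] (H H' : Over (Spec (CommRingCat.of R))) [GrpObj H]
    [GrpObj H'] (hH' : SGA3x.IsMultTypeFT H') (i : H ⟶ H') [IsMonHom i] [IsClosedImmersion i.left]
    [hfl : Flat H.hom] [hlfp : LocallyOfFinitePresentation H.hom] : SGA3x.IsMultTypeFT H := by
  obtain ⟨A, _, _, hA, hft, ⟨eA⟩⟩ := exists_hopf H' hH'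
  haveI := MTBridge.isAffineHom H' hH'
  haveI : IsAffine H'.left := isAffine_of_isAffineHom H'.hom
  haveI : IsAffine H.left := isAffine_of_isAffineHom i.left
  obtain ⟨C, _, eC, heC⟩ := Groth.Agent.FinHopf.exists_hopf (R := CommRingCat.of R) H
  haveI := heC
  haveI : IsIso eC.hom.left := inferInstanceAs (IsIso ((Over.forget _).map eC.hom))
  haveI : IsIso eA.hom.hom.hom.left := inferInstanceAs (IsIso ((Over.forget _).map ((Grp.forget _).map eA.hom)))
  let v : (specGrp R C).X ⟶ (specGrp R A).X := eC.hom ≫ i ≫ eA.hom.hom.hom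
  haveI : IsMonHom v := by dsimp [v]; infer_instance
  obtain ⟨f, hf⟩ := exists_bialgHom v
  haveI : IsClosedImmersion v.left := by
    show IsClosedImmersion (eC.hom.left ≫ i.left ≫ eA.hom.hom.hom.left)
    infer_instance
  have hsurj : Function.Surjective f := by
    let φ : CommRingCat.of A ⟶ CommRingCat.of C := CommRingCat.ofHom (f : A →ₐ[R] C).toRingHom
    haveI : IsClosedImmersion (Spec.map φ) := hf ▸ ‹IsClosedImmersion v.left›
    have h := (IsClosedImmersion.isAffine_surjective_of_isAffine (Spec.map φ)).2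
    intro c
    obtain ⟨a, ha⟩ := h ((Scheme.ΓSpecIso _).inv c)
    refine ⟨(Scheme.ΓSpecIso (CommRingCat.of A)).hom a, ?_⟩
    show φ ((Scheme.ΓSpecIso _).hom a) = c
    rw [← CommRingCat.comp_apply, ← Scheme.ΓSpecIso_naturality, CommRingCat.comp_apply, ha,
      Iso.inv_hom_id_apply]
  have hw : Spec.map (CommRingCat.ofHom (algebraMap R C)) = eC.hom.left ≫ H.hom := (Over.w eC.hom).symm
  haveI : Module.Flat R C := by
    have h : Flat (Spec.map (CommRingCat.ofHom (algebraMap R C))) := by rw [hw]; infer_instance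
    exact RingHom.flat_algebraMap_iff.1 (Flat.SpecMap_iff.1 h)
  have hfp : Algebra.FinitePresentation R C := by
    have h : LocallyOfFinitePresentation (Spec.map (CommRingCat.ofHom (algebraMap R C))) := by rw [hw]; infer_instance
    exact RingHom.finitePresentation_algebraMap.1 ((HasRingHomProperty.Spec_iff (P := @LocallyOfFinitePresentation)).1 h)
  haveI : Algebra.FiniteType R C := inferInstance
  obtain ⟨S', p, hp, hps, hl, hloc⟩ := isMultTypeFT_specGrp (isMultType_of_surjective hA f hsurj hfp)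
  refine ⟨S', p, hp, hps, hl, fun s' => ?_⟩
  obtain ⟨U, hU, M, hM, hMfg, ⟨d⟩⟩ := hloc s'
  exact ⟨U, hU, M, hM, hMfg, ⟨bcMapIso _ (Grp.mkIso' eC).symm ≪≫ d⟩⟩

variable {S : Scheme.{u}}

/-- Being of multiplicative type is local on the base. -/
theorem isMultTypeFT_of_cover (H : Over S) [GrpObj H]
    (h : ∀ V : S.affineOpens, SGA3x.IsMultTypeFT (Red.bc V.2.fromSpec H)) : SGA3x.IsMultTypeFT H := by
  classical
  choose S' p hp hps hl hloc using h
  let φ : ∀ V : S.affineOpens, S' V ⟶ S := fun V => p V ≫ V.2.fromSpec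
  haveI : ∀ V, Flat (φ V) := fun V => by haveI := hp V; infer_instance
  let f : (∐ S') ⟶ S := Sigma.desc φ
  haveI hflat : Flat f := IsZariskiLocalAtSource.sigmaDesc fun V => inferInstance
  have hφ : ∀ V z, f (Sigma.ι S' V z) = φ V z := fun V z => by
    show (Sigma.ι S' V ≫ f) z = _
    simp [f]
  have hcov : ∀ (V : S.affineOpens) (W : S.Opens), IsAffineOpen W → W ≤ V.1 →
      ∃ W' : (∐ S').Opens, IsCompact (W' : Set ↥(∐ S')) ∧ f '' (W' : Set ↥(∐ S')) = (W : Set S) := by
    intro V W hW hle
    have hW₀ : IsAffineOpen (V.2.fromSpec ⁻¹ᵁ W) :=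
      hW.preimage_of_isOpenImmersion V.2.fromSpec (by rw [V.2.opensRange_fromSpec]; exact hle)
    obtain ⟨W₁, hc, him⟩ := hl V _ hW₀
    refine ⟨(Sigma.ι S' V) ''ᵁ W₁, hc.image (Sigma.ι S' V).continuous, ?_⟩
    rw [Scheme.Hom.coe_image, ← Set.image_comp]
    have : (f ∘ Sigma.ι S' V) = V.2.fromSpec ∘ p V := funext fun z => hφ V z
    rw [this, Set.image_comp, him]
    exact Set.image_preimage_eq_of_subset (by rw [V.2.range_fromSpec]; exact hle)
  refine ⟨∐ S', f, hflat, ⟨fun s => ?_⟩, fun W hW => ?_, fun s' => ?_⟩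
  · obtain ⟨V, hV, hsV, -⟩ := exists_isAffineOpen_mem_and_subset (X := S) (x := s) (U := ⊤) trivial
    obtain ⟨W', -, hW'⟩ := hcov ⟨V, hV⟩ V hV le_rfl
    obtain ⟨z, -, hz⟩ := hW'.ge hsV
    exact ⟨z, hz⟩
  · obtain ⟨W', hc, hW'⟩ := hcov ⟨W, hW⟩ W hW le_rfl
    exact ⟨W', hc, hW'⟩
  · obtain ⟨⟨V, z⟩, rfl⟩ := (sigmaMk S').surjective s'
    obtain ⟨U, hU, M, hM, hMfg, ⟨d⟩⟩ := hloc V z
    let j := U.ι ≫ Sigma.ι S' V
    refine ⟨j.opensRange, ⟨⟨z, hU⟩, (sigmaMk_mk S' V z).symm⟩, M, hM, hMfg, ?_⟩
    have h1 : Nonempty (Grp.mk (Red.bc (U.ι ≫ φ V) H) ≅ Grp.mk (Red.DS (U : Scheme.{u}) M)) :=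
      ⟨bcCongr (Category.assoc _ _ _).symm H ≪≫ bcComp V.2.fromSpec (U.ι ≫ p V) H ≪≫ d⟩
    have h2 := nonempty_bc_split (H := H) h1 j.isoOpensRange.inv
    rwa [show j.isoOpensRange.inv ≫ U.ι ≫ φ V = j.opensRange.ι ≫ f by
      rw [← Scheme.Hom.isoOpensRange_inv_comp, Category.assoc]
      simp [j, f]] at h2

/-- **Flat closed subgroups of groups of multiplicative type are of multiplicative type.** -/
theorem isMultTypeFT_of_closed (H H' : Over S) [GrpObj H] [GrpObj H'] (hH' : SGA3x.IsMultTypeFT H')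
    (i : H ⟶ H') [IsMonHom i] [IsClosedImmersion i.left] [Flat H.hom] [LocallyOfFinitePresentation H.hom] :
    SGA3x.IsMultTypeFT H := by
  refine isMultTypeFT_of_cover H fun V => ?_
  let g := V.2.fromSpec
  let i' : Red.bc g H ⟶ Red.bc g H' := (Over.pullback g).map i
  haveI : IsMonHom i' := inferInstance
  haveI : IsClosedImmersion i'.left := by
    have h1 : i'.left ≫ pullback.fst H'.hom g = pullback.fst H.hom g ≫ i.left := pullback.lift_fst _ _ _
    refine MorphismProperty.of_isPullback (P := @IsClosedImmersion) (f := pullback.fst H'.hom g)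
      (f' := pullback.fst H.hom g) ?_ ‹IsClosedImmersion i.left›
    refine (IsPullback.of_bot ?_ h1.symm (IsPullback.of_hasPullback H'.hom g))
    rw [show i'.left ≫ pullback.snd H'.hom g = pullback.snd H.hom g from pullback.lift_snd _ _ _, Over.w i]
    exact IsPullback.of_hasPullback H.hom g
  haveI : Flat (Red.bc g H).hom := MorphismProperty.pullback_snd _ _ inferInstance
  haveI : LocallyOfFinitePresentation (Red.bc g H).hom := MorphismProperty.pullback_snd _ _ inferInstance
  exact isMultTypeFT_affine (Red.bc g H) (Red.bc g H') (isMultTypeFT_bc H' g hH') i'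

end Groth.Agent.MTSub
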